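import Groth.Agent.MuSimpleLib.Basic
import Groth.Agent.CurveBddLib.Vanish
import Groth.Agent.AmpleLib.Pullback
import Groth.Agent.AmpleEmb.TwistOne

/-!
# Stable sheaves for the truncated lexicographic slopes are simple
-/

set_option autoImplicit false
set_option backward.isDefEq.respectTransparency false
set_option linter.style.haveILetI false
set_option linter.unusedSectionVars false
set_option maxHeartbeats 1600000

universe u

open CategoryTheory CategoryTheory.Limits AlgebraicGeometry TopologicalSpace StabCat Polynomial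
open Groth.Agent.ShStabLib Groth.Agent.CMRegLib Groth.Agent.PullbackMod

noncomputable section

namespace Groth.Agent.MuHomLib

/-- The mediant of two vectors below `p` is below `p`. -/
theorem lex_mediant {ℓ : ℕ} {a b : ℚ} (ha : 0 < a) (hb : 0 < b) {v w p : Fin ℓ → ℚ}
    (hv : toLex v < toLex p) (hw : toLex w < toLex p) (h : ∀ j, a * v j + b * w j = (a + b) * p j) : False := by
  obtain ⟨i, hi, hlt⟩ := hv
  obtain ⟨j, hj, hlt'⟩ := hw
  simp only [toLex] at hi hlt hj hlt'
  rcases lt_trichotomy i j with hij | rfl | hij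
  · have e : w i = p i := hj i hij
    have := h i
    rw [e] at this
    have h2 : a * v i < a * p i := mul_lt_mul_of_pos_left hlt ha
    linarith
  · have h1 : v i < p i := hlt
    have h2 : w i < p i := hlt'
    have := h i
    nlinarith [mul_lt_mul_of_pos_left h1 ha, mul_lt_mul_of_pos_left h2 hb]
  · have e : v j = p j := hi j hij
    have := h j
    rw [e] at this
    have h2 : b * w j < b * p j := mul_lt_mul_of_pos_left hlt' hb
    linarith

variable (k : Type u) [Field k] {X : Scheme.{u}} [X.Over (Spec (CommRingCat.of k))]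
  [IsProper (X ↘ Spec (CommRingCat.of k))] {N : ℕ} (ι : X ⟶ CohB1.ProjSpace N k) [IsClosedImmersion ι]
  (hι : ι ≫ CohB1.ProjSpace.toSpec N k = X ↘ Spec (CommRingCat.of k))

/-- The polarisation. -/
abbrev polO : X.Modules := (Scheme.Modules.pullback ι).obj (Twist.twistProjSpace N k 1)

theorem isAmple_polO : CohB1.IsAmple (polO k ι) :=
  AmpleLib.isAmple_pullback ι (AmpleEmb.isAmple_twistOne N k)

include hι in
/-- Hilbert polynomials for the twists by all integers. -/
theorem euler_twistOn_eq {F : X.Modules} (hF : Coh.IsCoh F) {P : ℚ[X]}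
    (hP : ShStab.IsHilbPoly k X (polO k ι) F P) (m : ℤ) :
    (Curv2.euler k X (Pic13.twistOn k ι F m) : ℚ) = P.eval (m : ℚ) := by
  refine CurveBddLib.euler_twistOn_int ι hι hF P (fun q => ?_) m
  rw [← hP q]
  refine congrArg Int.cast ((CurveLib.euler_iso (K := k) (AmpleLib.tIso (Iso.refl F)
    (CurveBddLib.powIsoOf ι (a := 1) (AmpleLib.powOne (polO k ι)).symm q))).trans ?_)
  rw [one_mul]
  rfl

variable {d ℓ : ℕ} {E : X.Modules}

/-- The truncated slope vector. -/
def slopeVec (ℓ d : ℕ) (Q : ℚ[X]) : Fin ℓ → ℚ :=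
  fun j => ((Q).coeff (d - 1 - (j : ℕ)) * (Nat.factorial (d - 1 - (j : ℕ)) : ℚ)) / ((Q).coeff d * (Nat.factorial d : ℚ))

include hι in
theorem isIso_endo_ell (hE : Coh.IsCoh E) {P : ℚ[X]} (hP0 : P ≠ 0)
    (hP : ∀ m : ℤ, (Curv2.euler k X (Pic13.twistOn k ι E m) : ℚ) = P.eval (m : ℚ))
    (hpure : ShStab.IsPure X E d)
    (hst : ∀ (F : X.Modules) (j : F ⟶ E), Mono j → Coh.IsCoh F → ∀ Q : ℚ[X],
      (∀ m : ℤ, (Curv2.euler k X (Pic13.twistOn k ι F m) : ℚ) = Q.eval (m : ℚ)) →
        0 < Q.coeff d → Q.coeff d < P.coeff d → toLex (slopeVec ℓ d Q) < toLex (slopeVec ℓ d P))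
    (φ : E ⟶ E) (hφ : φ ≠ 0) : IsIso φ := by
  haveI := EulerIneqLib.isNoetherian_proper (X := X) k
  have hamp := isAmple_polO k ι
  have hdE := dimLE_of_isPure hE hpure
  obtain ⟨pE, -, hpE⟩ := exists_hp k hamp hE hdE
  have hPE : pE = P := HilbLib.poly_eq_of_nat fun q => by
    have h := euler_twistOn_eq k ι hι hE hpE (q : ℤ)
    rw [hP] at h
    push_cast at h
    exact h.symm
  subst hPE
  obtain ⟨pI, hpI, hα, hI, hI0⟩ := image_data k hamp hE hE hpure hφ
  obtain ⟨pK, hK, e, hKc, hKd⟩ := exists_hp_ker k hamp (Abelian.factorThruImage φ) hE hI hdE hpE hpI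
  have hKp := isPure_of_mono hpure (kernel.ι (Abelian.factorThruImage φ))
  have hK0 : IsZero (kernel (Abelian.factorThruImage φ)) := by
    by_contra h0
    have hαK := alpha_pos_of_isPure k hamp hKc h0 hKp hK
    have hf : (0 : ℚ) < (d.factorial : ℚ) := by exact_mod_cast d.factorial_pos
    have hcK : 0 < pK.coeff d := pos_of_mul_pos_right hαK hf.le
    have hcI : 0 < pI.coeff d := pos_of_mul_pos_right hα hf.le
    have hc : pE.coeff d = pK.coeff d + pI.coeff d := by rw [e, Polynomial.coeff_add]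
    have h1 := hst _ (kernel.ι (Abelian.factorThruImage φ)) inferInstance hKc pK
      (euler_twistOn_eq k ι hι hKc hK) hcK (by linarith)
    have h2 := hst _ (Abelian.image.ι φ) inferInstance hI pI (euler_twistOn_eq k ι hι hI hpI) hcI (by linarith)
    refine lex_mediant hcK hcI h1 h2 fun j => ?_
    simp only [slopeVec, ← hc]
    have hcoef : pE.coeff (d - 1 - (j : ℕ)) = pK.coeff (d - 1 - (j : ℕ)) + pI.coeff (d - 1 - (j : ℕ)) := by
      rw [e, Polynomial.coeff_add]
    have hpos : pE.coeff d ≠ 0 := by linarith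
    rw [hcoef]
    field_simp
  haveI : Mono (Abelian.factorThruImage φ) := Preadditive.mono_of_isZero_kernel _ hK0
  haveI : Mono φ := by
    rw [← Abelian.image.fac φ]
    infer_instance
  exact isIso_of_hp_eq k hamp φ hE hE hdE hpE hpE

include hι in
theorem exists_eq_mulEnd_ell [IsAlgClosed k] (hE : Coh.IsCoh E) {P : ℚ[X]} (hP0 : P ≠ 0)
    (hP : ∀ m : ℤ, (Curv2.euler k X (Pic13.twistOn k ι E m) : ℚ) = P.eval (m : ℚ))
    (hpure : ShStab.IsPure X E d)
    (hst : ∀ (F : X.Modules) (j : F ⟶ E), Mono j → Coh.IsCoh F → ∀ Q : ℚ[X],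
      (∀ m : ℤ, (Curv2.euler k X (Pic13.twistOn k ι F m) : ℚ) = Q.eval (m : ℚ)) →
        0 < Q.coeff d → Q.coeff d < P.coeff d → toLex (slopeVec ℓ d Q) < toLex (slopeVec ℓ d P))
    (φ : E ⟶ E) : ∃ c : k, φ = FactorOne.mulEnd E (Coh.toGlobal (X ↘ Spec (CommRingCat.of k)) c) := by
  haveI := EulerIneqLib.isNoetherian_proper (X := X) k
  by_cases hE0 : IsZero E
  · exact ⟨0, hE0.eq_of_src _ _⟩
  obtain ⟨x, hx, hxc⟩ := (DevLib.isClosed_support hE).exists_closed_singleton
    (Set.nonempty_iff_ne_empty.2 fun h => hE0 (DevLib.isZero_of_support_empty h))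
  haveI := hE.1
  haveI := PullbackMod.finite_stalk_of_isFT (M := E) hE.2 x
  haveI : Nontrivial (E.presheaf.stalk x) := not_subsingleton_iff_nontrivial.1 hx
  obtain ⟨c, hc⟩ := ShStabLib.exists_scalar_not_bijective _ (residue_toGlobal_surjective k x hxc)
    (PullbackMod.stalkLin φ x)
  refine ⟨c, by_contra fun hne => hc ?_⟩
  set g := φ - FactorOne.mulEnd E (Coh.toGlobal (X ↘ Spec (CommRingCat.of k)) c)
  haveI := isIso_endo_ell k ι hι hE hP0 hP hpure hst g (sub_ne_zero.2 hne)
  have e : PullbackMod.stalkLin g x = PullbackMod.stalkLin φ x -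
      (X.presheaf.germ ⊤ x trivial).hom (Coh.toGlobal (X ↘ Spec (CommRingCat.of k)) c) • LinearMap.id := by
    refine LinearMap.ext fun z => ?_
    obtain ⟨U, hxU, m, rfl⟩ := TopCat.Presheaf.exists_germ_eq E.presheaf z
    rw [LinearMap.sub_apply, LinearMap.smul_apply, LinearMap.id_apply, PullbackMod.stalkLin_germ,
      PullbackMod.stalkLin_germ]
    show E.presheaf.germ U x hxU (φ.app U m - (FactorOne.mulEnd E _).app U m) = _
    rw [map_sub, FactorOne.mulEnd_app, HomLib.germ_smul', TopCat.Presheaf.germ_res_apply]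
  have hb : Function.Bijective (PullbackMod.stalkLin g x) := (isIso_iff_stalk g).1 inferInstance x
  rw [e] at hb
  exact hb

end Groth.Agent.MuHomLib
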